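import Groth.Agent.SGA1Q.Affine
import Mathlib.AlgebraicGeometry.ProjectiveSpectrum.Basic

/-! Generalities for the quotient of a Proj by a finite group. -/

set_option autoImplicit false
universe u

open CategoryTheory AlgebraicGeometry HomogeneousLocalization

namespace Groth.Agent.ProjInv

theorem exists_invariant_notMem {A G σ : Type*} [CommRing A] [Group G] [Finite G] [MulSemiringAction G A]
    [SetLike σ A] [AddSubgroupClass σ A] (𝒜 : ℕ → σ) [GradedRing 𝒜]
    (hdeg : ∀ (g : G) (i : ℕ) (a : A), a ∈ 𝒜 i → g • a ∈ 𝒜 i) (P : Ideal A) [P.IsPrime]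
    {a : A} {i : ℕ} (ha : a ∈ 𝒜 i) (haP : a ∉ P) :
    ∃ (k : ℕ) (e : A), 0 < k ∧ e ∈ 𝒜 (k * i) ∧ (∀ g : G, g • e = e) ∧ e ∉ P := by
  classical
  cases nonempty_fintype G
  let e : ℕ → A := fun k => ∑ t ∈ (Finset.univ : Finset G).powersetCard k, ∏ g ∈ t, (-(g • a))
  have hmem : ∀ k, e k ∈ 𝒜 (k * i) := fun k => sum_mem fun t ht => by
    rw [Finset.mem_powersetCard] at ht
    have := SetLike.prod_mem_graded (A := 𝒜) (fun _ => i) (fun g => -(g • a)) (F := t)
      fun g _ => neg_mem (hdeg g i a ha)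
    rwa [Finset.sum_const, smul_eq_mul, ht.2] at this
  have hinv : ∀ (k : ℕ) (h : G), h • e k = e k := fun k h => by
    show h • (∑ t ∈ _, _) = _
    rw [Finset.smul_sum]
    refine Finset.sum_bij (fun t _ => t.image (h * ·)) (fun t ht => ?_) (fun s _ t _ hst => ?_)
      (fun t ht => ⟨t.image (h⁻¹ * ·), ?_, ?_⟩) (fun t _ => ?_)
    · rw [Finset.mem_powersetCard, Finset.card_image_of_injective _ (mul_right_injective h)]
      exact ⟨Finset.subset_univ _, (Finset.mem_powersetCard.1 ht).2⟩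
    · exact Finset.image_injective (mul_right_injective h) hst
    · rw [Finset.mem_powersetCard, Finset.card_image_of_injective _ (mul_right_injective h⁻¹)]
      exact ⟨Finset.subset_univ _, (Finset.mem_powersetCard.1 ht).2⟩
    · rw [Finset.image_image]; simp [Function.comp_def]
    · rw [Finset.prod_image fun x _ y _ hxy => mul_left_cancel hxy, Finset.smul_prod']
      exact Finset.prod_congr rfl fun g _ => by rw [smul_neg, smul_smul]
  by_contra hne
  push Not at hne
  have he : ∀ k, 0 < k → e k ∈ P := fun k hk => hne k (e k) hk (hmem k) (hinv k)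
  have h0 : ∏ g : G, (-(g • a) + a) = 0 :=
    Finset.prod_eq_zero (Finset.mem_univ (1 : G)) (by simp)
  rw [Finset.prod_add, Finset.sum_powerset, Finset.sum_range_succ'] at h0
  have h1 : ∀ k, (∑ t ∈ (Finset.univ : Finset G).powersetCard k, (∏ g ∈ t, (-(g • a))) *
      ∏ g ∈ Finset.univ \ t, a) = e k * a ^ (Fintype.card G - k) := fun k => by
    rw [Finset.sum_mul]
    refine Finset.sum_congr rfl fun t ht => ?_
    rw [Finset.prod_const, Finset.card_sdiff_of_subset (Finset.subset_univ t), Finset.card_univ,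
      (Finset.mem_powersetCard.1 ht).2]
  simp only [h1] at h0
  have h2 : e 0 * a ^ (Fintype.card G - 0) ∈ P := by
    rw [add_eq_zero_iff_eq_neg'] at h0
    rw [h0]
    exact P.neg_mem (P.sum_mem fun k _ => P.mul_mem_right _ (he _ k.succ_pos))
  rw [Nat.sub_zero] at h2
  simp only [e, Finset.powersetCard_zero, Finset.sum_singleton, Finset.prod_empty, one_mul] at h2
  exact haP (‹P.IsPrime›.mem_of_pow_mem _ h2)

theorem val_map {A B σ τ : Type*} [CommRing A] [CommRing B] [SetLike σ A] [AddSubgroupClass σ A]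
    [SetLike τ B] [AddSubgroupClass τ B] {𝒜 : ℕ → σ} [GradedRing 𝒜] {ℬ : ℕ → τ} [GradedRing ℬ]
    (g : 𝒜 →+*ᵍ ℬ) (f : A) (z : Away 𝒜 f) :
    (Away.map g f z).val = Localization.awayMap g.toRingHom f z.val := by
  obtain ⟨c, rfl⟩ := HomogeneousLocalization.mk_surjective z
  rw [Away.map, HomogeneousLocalization.map_mk, val_mk, val_mk, Localization.mk_eq_mk',
    Localization.mk_eq_mk']
  simp only [Localization.awayMap, IsLocalization.Away.map, IsLocalization.map_mk']
  rfl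

theorem mem_of_generated {R A : Type*} [CommRing R] [CommRing A] [Algebra R A] (𝒜 : ℕ → Submodule R A)
    [GradedAlgebra 𝒜] (hgen : Algebra.adjoin R (𝒜 1 : Set A) = ⊤) (P : Ideal A)
    (h : ∀ a ∈ 𝒜 1, a ∈ P) {i : ℕ} (hi : 0 < i) {b : A} (hb : b ∈ 𝒜 i) : b ∈ P := by
  classical
  have key : ∀ x ∈ Algebra.adjoin R (𝒜 1 : Set A), x - (DirectSum.decompose 𝒜 x 0 : A) ∈ P := by
    intro x hx
    induction hx using Algebra.adjoin_induction with
    | mem a ha =>
      rw [DirectSum.decompose_of_mem_ne 𝒜 ha (by norm_num), sub_zero]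
      exact h a ha
    | algebraMap r =>
      rw [DirectSum.decompose_of_mem_same 𝒜 (SetLike.algebraMap_mem_graded 𝒜 r), sub_self]
      exact P.zero_mem
    | add x y _ _ hx hy =>
      rw [DirectSum.decompose_add, DirectSum.add_apply, Submodule.coe_add, add_sub_add_comm]
      exact P.add_mem hx hy
    | mul x y _ _ hx hy =>
      have e := map_mul (GradedRing.projZeroRingHom 𝒜) x y
      simp only [GradedRing.projZeroRingHom_apply] at e
      rw [e]
      convert P.add_mem (P.mul_mem_right y hx) (P.mul_mem_left (DirectSum.decompose 𝒜 x 0 : A) hy) using 1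
      ring
  have := key b (hgen ▸ Algebra.mem_top)
  rwa [DirectSum.decompose_of_mem_ne 𝒜 hb hi.ne', sub_zero] at this

variable {X Y : Scheme.{u}}

/-- The identification of sections over the range of an affine chart with the ring. -/
noncomputable def chartE {R : CommRingCat.{u}} (j : Spec R ⟶ X) (U : X.Opens) (h : ⊤ ≤ j ⁻¹ᵁ U) :
    Γ(X, U) ⟶ R :=
  j.appLE U ⊤ h ≫ (Scheme.ΓSpecIso R).hom

theorem chartE_bijective {R : CommRingCat.{u}} (j : Spec R ⟶ X) [IsOpenImmersion j] {U : X.Opens}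
    (hU : j.opensRange = U) (h : ⊤ ≤ j ⁻¹ᵁ U) : Function.Bijective (chartE j U h) := by
  subst hU
  haveI : IsIso (j.appLE j.opensRange ⊤ h) := by
    have e : j ⁻¹ᵁ j.opensRange = ⊤ := top_le_iff.1 h
    rw [Scheme.Hom.appLE]
    haveI : IsIso ((Spec R).presheaf.map (homOfLE h).op) := by
      have : homOfLE h = eqToHom e.symm := Subsingleton.elim _ _
      rw [this, eqToHom_op]; infer_instance
    haveI : IsIso (j.app j.opensRange) := j.isIso_app j.opensRange le_rfl
    infer_instance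
  exact ConcreteCategory.bijective_of_isIso (j.appLE j.opensRange ⊤ h ≫ (Scheme.ΓSpecIso R).hom)

theorem chartE_naturality {R S : CommRingCat.{u}} (f : X ⟶ Y) (φ : S ⟶ R) (jR : Spec R ⟶ X) (jS : Spec S ⟶ Y)
    (w : jR ≫ f = Spec.map φ ≫ jS) {U : Y.Opens} {V : X.Opens} (e : V ≤ f ⁻¹ᵁ U)
    (hV : ⊤ ≤ jR ⁻¹ᵁ V) (hU : ⊤ ≤ jS ⁻¹ᵁ U) :
    f.appLE U V e ≫ chartE jR V hV = chartE jS U hU ≫ φ := by
  have h1 : f.appLE U V e ≫ jR.appLE V ⊤ hV = jS.appLE U ⊤ hU ≫ (Spec.map φ).appLE ⊤ ⊤ le_rfl := by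
    erw [Scheme.Hom.appLE_comp_appLE, Scheme.Hom.appLE_comp_appLE]
    exact SGA1Q.appLE_congr_hom w _ _
  rw [chartE, chartE, ← Category.assoc, h1, Category.assoc, Category.assoc]
  congr 1
  erw [Scheme.Hom.appLE_eq_app]
  exact Scheme.ΓSpecIso_naturality φ

theorem invariants_of_chart {G : Type u} [Group G] (ρ : G →* Aut X) (p : X ⟶ Y)
    (hinv : ∀ g : G, (ρ g).hom ≫ p = p) {R S : CommRingCat.{u}} (φ : S ⟶ R)
    (jR : Spec R ⟶ X) [IsOpenImmersion jR] (jS : Spec S ⟶ Y) [IsOpenImmersion jS]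
    (w : jR ≫ p = Spec.map φ ≫ jS) (hV : jR.opensRange = p ⁻¹ᵁ jS.opensRange)
    (hφ : Function.Injective φ.hom)
    (ψ : G → (R ⟶ R)) (hψ : ∀ g, jR ≫ (ρ g).inv = Spec.map (ψ g) ≫ jR)
    (hfix : ∀ z, (∀ g, ψ g z = z) → z ∈ Set.range φ.hom) :
    Function.Injective (p.app jS.opensRange).hom ∧
      ∀ s : Γ(X, p ⁻¹ᵁ jS.opensRange), (∀ g : G, ((ρ g).hom.appLE (p ⁻¹ᵁ jS.opensRange) (p ⁻¹ᵁ jS.opensRange)
        (SGA1.preimage_le_of_inv ρ p hinv g _)).hom s = s) → s ∈ Set.range (p.app jS.opensRange).hom := by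
  have hU : ⊤ ≤ jS ⁻¹ᵁ jS.opensRange := fun x _ => ⟨x, rfl⟩
  have hV' : ⊤ ≤ jR ⁻¹ᵁ (p ⁻¹ᵁ jS.opensRange) := fun x _ => hV.le ⟨x, rfl⟩
  have bR := chartE_bijective jR hV hV'
  have bS := chartE_bijective jS rfl hU
  have key : ∀ t, chartE jR _ hV' ((p.app jS.opensRange).hom t) = φ (chartE jS _ hU t) := fun t => by
    have := congr(($(chartE_naturality p φ jR jS w (le_refl _) hV' hU)).hom t)
    rwa [Scheme.Hom.appLE_eq_app] at this
  refine ⟨fun a b h => bS.1 (hφ ?_), fun s hs => ?_⟩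
  · exact (key a).symm.trans ((congrArg _ h).trans (key b))
  · obtain ⟨c, hc⟩ := hfix (chartE jR _ hV' s) fun g => by
      have hle := SGA1.preimage_le_of_inv ρ p hinv g⁻¹ jS.opensRange
      have hw : jR ≫ (ρ g⁻¹).hom = Spec.map (ψ g) ≫ jR := by
        rw [← hψ g, map_inv]; rfl
      have := congr(($(chartE_naturality (ρ g⁻¹).hom (ψ g) jR jR hw hle hV' hV')).hom s)
      rw [CommRingCat.comp_apply, CommRingCat.comp_apply, hs g⁻¹] at this
      exact this.symm
    obtain ⟨t, rfl⟩ := bS.2 c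
    exact ⟨t, bR.1 ((key t).trans hc)⟩

end Groth.Agent.ProjInv
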